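import Groth.Agent.ClosedBetween.Valuation

/-!
# Closed points of the generic fibre below a closed point of a special fibre
-/

set_option autoImplicit false

universe u

namespace Groth.Agent.ClosedBetween

open Polynomial

/-- A finite type domain whose only prime over zero is zero is algebraic. -/
theorem isAlgebraic_of_unique {A B : Type u} [CommRing A] [IsDomain A] [CommRing B] [IsDomain B] [Algebra A B]
    [FaithfulSMul A B] [Algebra.FiniteType A B] (h : ∀ Q : Ideal B, Q.IsPrime → Q.under A = ⊥ → Q = ⊥) :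
    Algebra.IsAlgebraic A B := by
  let K := FractionRing A
  let M := Algebra.algebraMapSubmonoid B (nonZeroDivisors A)
  have hM : M ≤ nonZeroDivisors B := by
    rintro _ ⟨a, ha, rfl⟩
    exact mem_nonZeroDivisors_of_ne_zero fun h => nonZeroDivisors.ne_zero ha
      (FaithfulSMul.algebraMap_injective A B (h.trans (map_zero _).symm))
  let L := Localization M
  haveI : IsDomain L := IsLocalization.isDomain_localization hM
  letI : Algebra K L := localizationAlgebra (nonZeroDivisors A) B
  haveI : IsScalarTower A K L := IsScalarTower.of_algebraMap_eq fun a => by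
    rw [RingHom.algebraMap_toAlgebra]
    exact ((IsLocalization.map_eq _ a).trans (IsScalarTower.algebraMap_apply A B L a).symm).symm
  haveI : IsLocalization ((nonZeroDivisors A).map (algebraMap A B)) L := inferInstanceAs (IsLocalization M L)
  haveI : Algebra.FiniteType K L := RingHom.finiteType_algebraMap.mp
    (RingHom.finiteType_localizationPreserves (algebraMap A B) (nonZeroDivisors A) K L
      (RingHom.finiteType_algebraMap.mpr inferInstance))
  have hfield : IsField L := by
    by_contra hne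
    obtain ⟨m, hm0, hm⟩ := Ring.not_isField_iff_exists_prime.mp hne
    have hprime := (IsLocalization.isPrime_iff_isPrime_disjoint M L m).mp hm
    refine hm0 ?_
    have h0 : m.under B = ⊥ := h _ hprime.1 ((Submodule.eq_bot_iff _).mpr fun a ha => by
      by_contra ha0
      exact Set.disjoint_left.mp hprime.2 ⟨a, mem_nonZeroDivisors_of_ne_zero ha0, rfl⟩ ha)
    rw [← IsLocalization.map_under M L m, h0, Ideal.map_bot]
  letI := hfield.toField
  haveI : Module.Finite K L := finite_of_finite_type_of_isJacobsonRing K L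
  haveI : Algebra.IsAlgebraic K L := Algebra.IsAlgebraic.of_finite K L
  haveI : Algebra.IsAlgebraic A L := (IsFractionRing.comap_isAlgebraic_iff (A := A) (K := K) (C := L)).mpr inferInstance
  exact ⟨fun b => (isAlgebraic_algHom_iff (IsScalarTower.toAlgHom A B L)
    (IsLocalization.injective L hM)).mp (Algebra.IsAlgebraic.isAlgebraic _)⟩

/-- Conversely. -/
theorem eq_bot_of_isAlgebraic {A B : Type u} [CommRing A] [CommRing B] [IsDomain B] [Algebra A B]
    [Algebra.IsAlgebraic A B] (Q : Ideal B) (h : Q.under A = ⊥) : Q = ⊥ := by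
  refine (Submodule.eq_bot_iff _).mpr fun x hx => ?_
  by_contra h0
  exact Ideal.comap_ne_bot_of_algebraic_mem h0 hx (Algebra.IsAlgebraic.isAlgebraic x) h

/-- Pulling back an algebraic quotient. -/
theorem isAlgebraic_comap {A W B B' : Type u} [CommRing A] [CommRing W] [IsDomain W] [CommRing B] [CommRing B']
    [Algebra A W] [Algebra A B] [Algebra W B'] [Algebra.IsAlgebraic A W] (j : B →+* B')
    (hj : ∀ a, j (algebraMap A B a) = algebraMap W B' (algebraMap A W a)) (Q' : Ideal B') [Q'.IsPrime]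
    (halg : Algebra.IsAlgebraic W (B' ⧸ Q')) : Algebra.IsAlgebraic A (B ⧸ Q'.comap j) := by
  letI : Algebra A B' := ((algebraMap W B').comp (algebraMap A W)).toAlgebra
  haveI : IsScalarTower A W B' := IsScalarTower.of_algebraMap_eq fun _ => rfl
  haveI : IsScalarTower A W (B' ⧸ Q') := IsScalarTower.of_algebraMap_eq fun _ => rfl
  haveI : NoZeroDivisors W := inferInstance
  haveI : Algebra.IsAlgebraic A (B' ⧸ Q') := Algebra.IsAlgebraic.trans A W (B' ⧸ Q')
  let jq : B ⧸ Q'.comap j →ₐ[A] B' ⧸ Q' :=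
    { Ideal.quotientMap Q' j le_rfl with
      commutes' := fun a => congrArg (Ideal.Quotient.mk Q') (hj a) }
  exact ⟨fun x => (isAlgebraic_algHom_iff jq Ideal.quotientMap_injective).mp (Algebra.IsAlgebraic.isAlgebraic _)⟩

/-- The statement for a domain. -/
theorem exists_prime_domain {A B : Type u} [CommRing A] [IsDomain A] [CommRing B] [IsDomain B] [Algebra A B]
    [FaithfulSMul A B] [Algebra.FiniteType A B] (P' : Ideal B) [P'.IsPrime] (hp : P'.under A ≠ ⊥)
    (hres : ∀ b : B, ∃ f : A[X], (∃ i, f.coeff i ∉ P'.under A) ∧ aeval b f ∈ P') (g : B) (hg : g ≠ 0) :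
    ∃ Q : Ideal B, Q.IsPrime ∧ Q ≤ P' ∧ Q.under A = ⊥ ∧ g ∉ Q ∧ Algebra.IsAlgebraic A (B ⧸ Q) := by
  classical
  let Ω := AlgebraicClosure (FractionRing B)
  let ι : B →+* Ω := (algebraMap (FractionRing B) Ω).comp (algebraMap B (FractionRing B))
  have hι : Function.Injective ι := (algebraMap (FractionRing B) Ω).injective.comp (IsFractionRing.injective B _)
  let R : Subring Ω := ι.range
  let e : B ≃+* R := RingEquiv.ofBijective ι.rangeRestrict
    ⟨fun x y h => hι (congrArg Subtype.val h), ι.rangeRestrict_surjective⟩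
  let P₁ : Ideal R := P'.comap e.symm.toRingHom
  obtain ⟨V, hV⟩ := (LocalSubring.ofPrime R P₁).exists_le_valuationSubring
  have hRV : ∀ b : B, ι b ∈ V := fun b => hV.1 (LocalSubring.le_ofPrime R P₁ ⟨b, rfl⟩)
  have hcentre : ∀ b : B, ι b ∈ V.nonunits ↔ b ∈ P' := by
    intro b
    obtain ⟨hle, hloc⟩ := hV
    haveI := hloc
    let c : R →+* (LocalSubring.ofPrime R P₁).toSubring := Subring.inclusion (LocalSubring.le_ofPrime R P₁)
    letI : Algebra R (LocalSubring.ofPrime R P₁).toSubring := c.toAlgebra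
    have hc : IsUnit (c (e b)) ↔ b ∉ P' := by
      have := IsLocalization.AtPrime.isUnit_to_map_iff (LocalSubring.ofPrime R P₁).toSubring P₁ (e b)
      refine this.trans ?_
      show e.symm (e b) ∉ P' ↔ _
      rw [e.symm_apply_apply]
    rw [ValuationSubring.mem_nonunits_iff_exists_mem_maximalIdeal]
    have hiff : IsUnit (⟨ι b, hRV b⟩ : V) ↔ b ∉ P' := by
      rw [← hc]
      exact isUnit_map_iff (Subring.inclusion hle) (c (e b))
    constructor
    · rintro ⟨hb, hmax⟩
      by_contra hbP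
      exact (IsLocalRing.mem_maximalIdeal _).mp hmax (hiff.mpr hbP)
    · exact fun hbP => ⟨hRV b, (IsLocalRing.mem_maximalIdeal _).mpr fun hu => hiff.mp hu hbP⟩
  let K := FractionRing A
  have hιA : Function.Injective (ι.comp (algebraMap A B)) := hι.comp (FaithfulSMul.algebraMap_injective A B)
  let κ : K →+* Ω := IsFractionRing.lift hιA
  have hκ : ∀ a, κ (algebraMap A K a) = ι (algebraMap A B a) := IsFractionRing.lift_algebraMap hιA
  let W : ValuationSubring K := V.comap κ
  let jA : A →+* W := (algebraMap A K).codRestrict W.toSubring fun a => by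
    show κ _ ∈ V
    rw [hκ]; exact hRV _
  letI : Algebra A W := jA.toAlgebra
  letI : Algebra W Ω := (κ.comp W.subtype).toAlgebra
  haveI : FaithfulSMul W Ω := (faithfulSMul_iff_algebraMap_injective _ _).2 fun x y h => Subtype.ext (κ.injective h)
  have hjA : ∀ a : A, algebraMap W Ω (jA a) = ι (algebraMap A B a) := hκ
  have hWV : ∀ w : W, algebraMap W Ω w ∈ V := fun w => w.2
  have hloc : IsLocalHom ((algebraMap W Ω).codRestrict V.toSubring hWV) := by
    constructor
    intro w hw
    obtain ⟨v, hv⟩ := hw.exists_right_inv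
    have hv' : κ (w : K) * (v : Ω) = 1 := congrArg Subtype.val hv
    have hw0 : (w : K) ≠ 0 := fun h => by rw [h, map_zero, zero_mul] at hv'; exact zero_ne_one hv'
    refine IsUnit.of_mul_eq_one (⟨(w : K)⁻¹, ?_⟩ : W) (Subtype.ext (mul_inv_cancel₀ hw0))
    show κ _ ∈ V
    rw [map_inv₀, inv_eq_of_mul_eq_one_right hv']
    exact v.2
  obtain ⟨a, ha, ha0⟩ : ∃ a ∈ P'.under A, a ≠ 0 := by
    by_contra! h
    exact hp ((Submodule.eq_bot_iff _).mpr h)
  obtain ⟨s, hs⟩ := Algebra.FiniteType.out (R := A) (A := B)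
  let B' : Subalgebra W Ω := Algebra.adjoin W (ι '' (s : Set B))
  haveI : Algebra.FiniteType W B' :=
    (Subalgebra.fg_iff_finiteType _).mp (Subalgebra.fg_def.mpr ⟨_, s.finite_toSet.image _, rfl⟩)
  have hBB' : ∀ b : B, ι b ∈ B' := by
    intro b
    have hb : b ∈ Algebra.adjoin A (s : Set B) := hs ▸ trivial
    induction hb using Algebra.adjoin_induction with
    | mem x hx => exact Algebra.subset_adjoin ⟨x, hx, rfl⟩
    | algebraMap a => rw [← hjA]; exact B'.algebraMap_mem _
    | add x y _ _ hx hy => rw [map_add]; exact add_mem hx hy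
    | mul x y _ _ hx hy => rw [map_mul]; exact mul_mem hx hy
  let ρ : W →+* IsLocalRing.ResidueField V :=
    (IsLocalRing.residue V).comp ((algebraMap W Ω).codRestrict V.toSubring hWV)
  haveI := hloc
  let ρbar : IsLocalRing.ResidueField W →+* IsLocalRing.ResidueField V :=
    IsLocalRing.ResidueField.map ((algebraMap W Ω).codRestrict V.toSubring hWV)
  have hgen : ∀ b : B, ρ.IsIntegralElem (IsLocalRing.residue V ⟨ι b, hRV b⟩) := by
    intro b
    obtain ⟨f, ⟨i, hi⟩, hfb⟩ := hres b
    let f₁ : (IsLocalRing.ResidueField W)[X] := f.map ((IsLocalRing.residue W).comp jA)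
    have hf₁ : f₁ ≠ 0 := fun h => by
      have h1 := congrArg (fun q => q.coeff i) h
      simp only [f₁, coeff_map, coeff_zero, RingHom.comp_apply, IsLocalRing.residue_eq_zero_iff] at h1
      refine hi ?_
      show algebraMap A B (f.coeff i) ∈ P'
      rw [← hcentre, ← hjA]
      refine ValuationSubring.mem_nonunits_iff_exists_mem_maximalIdeal.mpr ⟨hWV _, ?_⟩
      rw [IsLocalRing.mem_maximalIdeal] at h1 ⊢
      exact fun hu => h1 ((isUnit_map_iff ((algebraMap W Ω).codRestrict V.toSubring hWV) _).mp hu)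
    obtain ⟨F, hF, -, hFm⟩ := Polynomial.lifts_and_degree_eq_and_monic
      (f := IsLocalRing.residue W) (p := f₁ * C (f₁.leadingCoeff)⁻¹)
      (Polynomial.map_surjective _ IsLocalRing.residue_surjective _) (monic_mul_leadingCoeff_inv hf₁)
    refine ⟨F, hFm, ?_⟩
    have h1 : eval₂ ρbar (IsLocalRing.residue V ⟨ι b, hRV b⟩) f₁ = 0 := by
      rw [eval₂_map]
      have h2 : (aeval b f) ∈ P' := hfb
      rw [← hcentre] at h2
      obtain ⟨h3, h4⟩ := ValuationSubring.mem_nonunits_iff_exists_mem_maximalIdeal.mp h2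
      rw [← IsLocalRing.residue_eq_zero_iff] at h4
      refine Eq.trans ?_ h4
      have h5 : (⟨ι (aeval b f), h3⟩ : V) = eval₂ ((ι.comp (algebraMap A B)).codRestrict V.toSubring
          fun a => hRV _) (⟨ι b, hRV b⟩ : V) f := Subtype.ext (by
        show ι (aeval b f) = V.subtype (eval₂ _ _ f)
        rw [aeval_def, hom_eval₂, hom_eval₂]
        congr 1)
      rw [h5, hom_eval₂]
      congr 1
      ext a
      show IsLocalRing.residue V _ = IsLocalRing.residue V _
      congr 1
      exact Subtype.ext (hjA a)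
    show eval₂ (ρbar.comp (IsLocalRing.residue W)) _ F = 0
    rw [← eval₂_map, hF, eval₂_mul, h1, zero_mul]
  have hB'V : ∀ x ∈ B', ∃ h : x ∈ V, ρ.IsIntegralElem (IsLocalRing.residue V ⟨x, h⟩) := by
    intro x hx
    induction hx using Algebra.adjoin_induction with
    | mem x hx => obtain ⟨b, -, rfl⟩ := hx; exact ⟨hRV b, hgen b⟩
    | algebraMap w => exact ⟨hWV w, RingHom.isIntegralElem_map ρ⟩
    | add x y _ _ hx hy => exact ⟨add_mem hx.1 hy.1, hx.2.add ρ hy.2⟩
    | mul x y _ _ hx hy => exact ⟨mul_mem hx.1 hy.1, hx.2.mul ρ hy.2⟩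
  obtain ⟨Q', hQ', hQnon, hQW, hgQ, halg⟩ := exists_prime_valuation V hWV (a := jA a)
    (by rw [hjA, hcentre]; exact ha)
    (fun h => ha0 (IsFractionRing.injective A K ((congrArg Subtype.val h).trans (map_zero _).symm)))
    hloc B' (fun b => (hB'V b b.2).1) (fun b => (hB'V b b.2).2) ⟨ι g, hBB' g⟩
    (fun h => hg (hι ((congrArg Subtype.val h).trans (map_zero _).symm)))
  let j : B →+* B' := ι.codRestrict B'.toSubring hBB'
  have hj : ∀ a, j (algebraMap A B a) = algebraMap W B' (jA a) := fun a => Subtype.ext (hjA a).symm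
  refine ⟨Q'.comap j, inferInstance, fun b hb => (hcentre b).mp (hQnon _ hb), ?_, hgQ, ?_⟩
  · refine (Submodule.eq_bot_iff _).mpr fun x hx => ?_
    have h1 : jA x ∈ Q'.under W := by
      show algebraMap W B' (jA x) ∈ Q'
      rw [← hj]; exact hx
    rw [hQW, Ideal.mem_bot] at h1
    exact IsFractionRing.injective A K ((congrArg Subtype.val h1).trans (map_zero _).symm)
  · haveI : Algebra.IsAlgebraic A K := IsLocalization.isAlgebraic _ (nonZeroDivisors A)
    haveI : Algebra.IsAlgebraic A W := ⟨fun w => by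
      obtain ⟨f, hf, hfw⟩ := (Algebra.IsAlgebraic.isAlgebraic (R := A) (w : K))
      refine ⟨f, hf, Subtype.ext ?_⟩
      show W.subtype (aeval w f) = 0
      rw [aeval_def, hom_eval₂]
      exact hfw⟩
    exact isAlgebraic_comap j hj Q' halg

/-- A prime of the fibre below a given closed point of another fibre, closed in its fibre and avoiding an element. -/
theorem exists_prime_between {A B : Type u} [CommRing A] [CommRing B] [Algebra A B] [Algebra.FiniteType A B]
    (P P' : Ideal B) [P.IsPrime] [P'.IsPrime] (hle : P ≤ P') (hne : P.under A ≠ P'.under A)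
    (hmax : ∀ Q : Ideal B, Q.IsPrime → P' ≤ Q → Q.under A = P'.under A → Q = P') (g : B) (hg : g ∉ P) :
    ∃ Q : Ideal B, Q.IsPrime ∧ P ≤ Q ∧ Q ≤ P' ∧ Q.under A = P.under A ∧ g ∉ Q ∧
      ∀ Q' : Ideal B, Q'.IsPrime → Q ≤ Q' → Q'.under A = P.under A → Q' = Q := by
  have algQuot : ∀ (I : Ideal B) [I.IsPrime], (∀ Q : Ideal B, Q.IsPrime → I ≤ Q → Q.under A = I.under A → Q = I) →
      Algebra.IsAlgebraic (A ⧸ I.under A) (B ⧸ I) := by
    intro I _ hI
    haveI : Algebra.FiniteType A (B ⧸ I) :=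
      Algebra.FiniteType.of_surjective (Ideal.Quotient.mkₐ A I) Ideal.Quotient.mk_surjective
    haveI : Algebra.FiniteType (A ⧸ I.under A) (B ⧸ I) := Algebra.FiniteType.of_restrictScalars_finiteType A _ _
    haveI : FaithfulSMul (A ⧸ I.under A) (B ⧸ I) :=
      (faithfulSMul_iff_algebraMap_injective _ _).2 (Ideal.quotientMap_injective' le_rfl)
    refine isAlgebraic_of_unique fun Q hQ hQA => ?_
    have h1 : Q.comap (Ideal.Quotient.mk I) = I := by
      refine hI _ inferInstance (fun x hx => ?_) ?_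
      · rw [Ideal.mem_comap, Ideal.Quotient.eq_zero_iff_mem.mpr hx]; exact zero_mem _
      · ext x
        show algebraMap (A ⧸ I.under A) (B ⧸ I) (Ideal.Quotient.mk _ x) ∈ Q ↔ _
        rw [← Ideal.mem_comap, show Ideal.comap (algebraMap (A ⧸ I.under A) (B ⧸ I)) Q = ⊥ from hQA,
          Ideal.mem_bot, Ideal.Quotient.eq_zero_iff_mem]
    refine (Submodule.eq_bot_iff _).mpr fun x hx => ?_
    obtain ⟨x, rfl⟩ := Ideal.Quotient.mk_surjective x
    exact Ideal.Quotient.eq_zero_iff_mem.mpr (h1 ▸ hx)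
  have halg := algQuot P' hmax
  let B₀ := B ⧸ P
  let A₀ := A ⧸ P.under A
  haveI : Algebra.FiniteType A B₀ :=
    Algebra.FiniteType.of_surjective (Ideal.Quotient.mkₐ A P) Ideal.Quotient.mk_surjective
  haveI : Algebra.FiniteType A₀ B₀ := Algebra.FiniteType.of_restrictScalars_finiteType A _ _
  haveI : FaithfulSMul A₀ B₀ :=
    (faithfulSMul_iff_algebraMap_injective _ _).2 (Ideal.quotientMap_injective' le_rfl)
  let P₀ : Ideal B₀ := P'.map (Ideal.Quotient.mk P)
  haveI : P₀.IsPrime := Ideal.map_isPrime_of_surjective Ideal.Quotient.mk_surjective (by rwa [Ideal.mk_ker])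
  have hP₀ : P₀.comap (Ideal.Quotient.mk P) = P' := by
    rw [Ideal.comap_map_of_surjective _ Ideal.Quotient.mk_surjective, ← RingHom.ker_eq_comap_bot, Ideal.mk_ker,
      sup_eq_left.mpr hle]
  have hP₀A : ∀ a : A, Ideal.Quotient.mk (P.under A) a ∈ P₀.under A₀ ↔ a ∈ P'.under A := fun a => by
    show Ideal.Quotient.mk P (algebraMap A B a) ∈ P₀ ↔ algebraMap A B a ∈ P'
    conv_rhs => rw [← hP₀]
    rfl
  have h₁ : P₀.under A₀ ≠ ⊥ := fun h => by
    refine hne ?_
    ext a
    constructor
    · exact fun ha => hle ha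
    · intro ha
      have := (hP₀A a).mpr ha
      rwa [h, Ideal.mem_bot, Ideal.Quotient.eq_zero_iff_mem] at this
  have h₂ : ∀ b : B₀, ∃ f : A₀[X], (∃ i, f.coeff i ∉ P₀.under A₀) ∧ aeval b f ∈ P₀ := fun b => by
    obtain ⟨b, rfl⟩ := Ideal.Quotient.mk_surjective b
    obtain ⟨f, hf, hfb⟩ := halg.isAlgebraic (Ideal.Quotient.mk P' b)
    obtain ⟨f, rfl⟩ := Polynomial.map_surjective _ Ideal.Quotient.mk_surjective f
    refine ⟨f.map (Ideal.Quotient.mk (P.under A)), ?_, ?_⟩
    · by_contra! hall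
      refine hf (Polynomial.ext fun i => ?_)
      rw [coeff_map, coeff_zero, Ideal.Quotient.eq_zero_iff_mem, ← hP₀A, ← coeff_map]
      exact hall i
    · have h1 : Ideal.Quotient.mk P' (aeval b f) = 0 := by
        rw [← hfb, aeval_def, aeval_def, hom_eval₂, eval₂_map]
        rfl
      have h2 : aeval (Ideal.Quotient.mk P b) (f.map (Ideal.Quotient.mk (P.under A))) = Ideal.Quotient.mk P (aeval b f) := by
        rw [aeval_def, aeval_def, hom_eval₂, eval₂_map]
        rfl
      rw [h2]
      exact Ideal.mem_map_of_mem _ (Ideal.Quotient.eq_zero_iff_mem.mp h1)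
  obtain ⟨Q₀, hQ₀, hQ₀le, hQ₀A, hgQ₀, hQ₀alg⟩ := exists_prime_domain (A := A₀) P₀ h₁ h₂
    (Ideal.Quotient.mk P g) (fun h => hg (Ideal.Quotient.eq_zero_iff_mem.mp h))
  refine ⟨Q₀.comap (Ideal.Quotient.mk P), inferInstance, fun x hx => ?_,
    (Ideal.comap_mono hQ₀le).trans_eq hP₀, ?_, hgQ₀, fun Q' hQ' hQQ' hQ'A => ?_⟩
  · rw [Ideal.mem_comap, Ideal.Quotient.eq_zero_iff_mem.mpr hx]; exact zero_mem _
  · ext a
    show algebraMap A₀ B₀ (Ideal.Quotient.mk _ a) ∈ Q₀ ↔ _
    rw [← Ideal.mem_comap, show Ideal.comap (algebraMap A₀ B₀) Q₀ = ⊥ from hQ₀A, Ideal.mem_bot,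
      Ideal.Quotient.eq_zero_iff_mem]
  · have hPQ' : P ≤ Q' := le_trans (fun x hx => by
      rw [Ideal.mem_comap, Ideal.Quotient.eq_zero_iff_mem.mpr hx]; exact zero_mem _) hQQ'
    refine le_antisymm (fun x hx => ?_) hQQ'
    let Q'₀ : Ideal B₀ := Q'.map (Ideal.Quotient.mk P)
    have hQ'₀ : Q'₀.comap (Ideal.Quotient.mk P) = Q' := by
      rw [Ideal.comap_map_of_surjective _ Ideal.Quotient.mk_surjective, ← RingHom.ker_eq_comap_bot,
        Ideal.mk_ker, sup_eq_left.mpr hPQ']
    let Q'' : Ideal (B₀ ⧸ Q₀) := Q'₀.map (Ideal.Quotient.mk Q₀)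
    have hle' : Q₀ ≤ Q'₀ := by
      rw [← Ideal.map_comap_of_surjective _ Ideal.Quotient.mk_surjective Q₀]
      exact Ideal.map_mono hQQ'
    have hQ'' : Q''.comap (Ideal.Quotient.mk Q₀) = Q'₀ := by
      rw [Ideal.comap_map_of_surjective _ Ideal.Quotient.mk_surjective, ← RingHom.ker_eq_comap_bot,
        Ideal.mk_ker, sup_eq_left.mpr hle']
    haveI := hQ₀alg
    have h0 : Q''.under A₀ = ⊥ := by
      refine (Submodule.eq_bot_iff _).mpr fun a ha => ?_
      obtain ⟨a, rfl⟩ := Ideal.Quotient.mk_surjective a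
      have h1 : algebraMap A₀ B₀ (Ideal.Quotient.mk _ a) ∈ Q'₀ := by rw [← hQ'']; exact ha
      have h2 : algebraMap A B a ∈ Q' := by rw [← hQ'₀]; exact h1
      exact Ideal.Quotient.eq_zero_iff_mem.mpr (hQ'A ▸ h2)
    have h1 := eq_bot_of_isAlgebraic Q'' h0
    have h2 : Ideal.Quotient.mk Q₀ (Ideal.Quotient.mk P x) ∈ Q'' :=
      Ideal.mem_map_of_mem _ (Ideal.mem_map_of_mem _ hx)
    rw [h1, Ideal.mem_bot, Ideal.Quotient.eq_zero_iff_mem] at h2
    exact h2

end Groth.Agent.ClosedBetween
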