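import Groth.Agent.FibreDim.Alg
import Groth.Agent.AICPoint.Root
import Mathlib

/-!
# Algebraic points of finite type domains over valuation rings through the special fibre
-/

set_option autoImplicit false

universe u

open MvPolynomial (X C)
open TensorProduct

namespace Groth.Agent.ClosedBetween

/-- Over a valuation ring a non-zero polynomial is a constant times one with a unit coefficient. -/
theorem exists_eq_C_mul {W : Type u} [CommRing W] [IsDomain W] [ValuationRing W] {n : ℕ}
    {f : MvPolynomial (Fin n) W} (hf : f ≠ 0) :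
    ∃ (c : W) (f₀ : MvPolynomial (Fin n) W) (m : Fin n →₀ ℕ), c ≠ 0 ∧ f = C c * f₀ ∧ f₀.coeff m = 1 := by
  classical
  have key : ∀ s : Finset (Fin n →₀ ℕ), s.Nonempty → ∃ m ∈ s, ∀ i ∈ s, f.coeff m ∣ f.coeff i := by
    intro s hs
    induction hs using Finset.Nonempty.cons_induction with
    | singleton a => exact ⟨a, by simp, by simp⟩
    | cons a s ha hs ih =>
      obtain ⟨m, hm, hall⟩ := ih
      rcases ValuationRing.dvd_total (f.coeff a) (f.coeff m) with h | h
      · refine ⟨a, by simp, fun i hi => ?_⟩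
        rcases Finset.mem_cons.mp hi with rfl | hi
        · exact dvd_rfl
        · exact h.trans (hall i hi)
      · refine ⟨m, by simp [hm], fun i hi => ?_⟩
        rcases Finset.mem_cons.mp hi with rfl | hi
        · exact h
        · exact hall i hi
  obtain ⟨m, hm, hall⟩ := key f.support (MvPolynomial.support_nonempty.mpr hf)
  have hc : f.coeff m ≠ 0 := MvPolynomial.mem_support_iff.mp hm
  obtain ⟨f₀, hf₀⟩ : C (f.coeff m) ∣ f := MvPolynomial.C_dvd_iff_dvd_coeff _ _ |>.mpr fun i => by
    by_cases hi : i ∈ f.support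
    · exact hall i hi
    · rw [MvPolynomial.notMem_support_iff.mp hi]; exact dvd_zero _
  refine ⟨f.coeff m, f₀, m, hc, hf₀, ?_⟩
  have : f.coeff m = f.coeff m * f₀.coeff m := by
    conv_lhs => rw [hf₀, MvPolynomial.coeff_C_mul]
  exact (mul_eq_left₀ hc).mp this.symm

/-- Over a valuation ring, a lift of Noether normalisation of the closed fibre is injective. -/
theorem injective_of_fibre {W B : Type u} [CommRing W] [IsDomain W] [ValuationRing W] [CommRing B] [IsDomain B]
    [Algebra W B] [FaithfulSMul W B] {n : ℕ}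
    (g : MvPolynomial (Fin n) (IsLocalRing.ResidueField W) →ₐ[IsLocalRing.ResidueField W]
      IsLocalRing.ResidueField W ⊗[W] B) (hg : Function.Injective g) (φ : MvPolynomial (Fin n) W →ₐ[W] B)
    (hφ : ∀ p, g (MvPolynomial.map (IsLocalRing.residue W) p) = 1 ⊗ₜ φ p) : Function.Injective φ := by
  refine (injective_iff_map_eq_zero φ).mpr fun f hf => ?_
  by_contra hne
  obtain ⟨c, f₀, m, hc, rfl, hm⟩ := exists_eq_C_mul hne
  have h0 : φ f₀ = 0 := by
    rw [map_mul] at hf
    refine (mul_eq_zero.mp hf).resolve_left ?_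
    rw [← MvPolynomial.algebraMap_eq, φ.commutes]
    exact fun h => hc ((FaithfulSMul.algebraMap_injective W B) (h.trans (map_zero _).symm))
  have h1 : MvPolynomial.map (IsLocalRing.residue W) f₀ = 0 := hg (by rw [hφ, h0, tmul_zero, map_zero])
  have h2 := congrArg (MvPolynomial.coeff m) h1
  rw [MvPolynomial.coeff_map, hm, map_one, MvPolynomial.coeff_zero] at h2
  exact one_ne_zero h2

/-- Algebraicity of a quotient integral over polynomials in algebraic elements, up to a localisation. -/
theorem isAlgebraic_of_generators {W B : Type u} [CommRing W] [IsDomain W] [CommRing B] [Algebra W B] {n : ℕ}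
    (φ : MvPolynomial (Fin n) W →ₐ[W] B) (Q : Ideal B) [Q.IsPrime] [FaithfulSMul W (B ⧸ Q)]
    (hT : ∀ i, IsAlgebraic W (Ideal.Quotient.mk Q (φ (X i)))) (r : B) (hrQ : r ∉ Q)
    (hrint : φ.toRingHom.IsIntegralElem r)
    (hall : ∀ x : B, ∃ k : ℕ, φ.toRingHom.IsIntegralElem (r ^ k * x)) : Algebra.IsAlgebraic W (B ⧸ Q) := by
  let T : Subalgebra W (B ⧸ Q) := Algebra.adjoin W (Set.range fun i => Ideal.Quotient.mk Q (φ (X i)))
  haveI : Algebra.IsAlgebraic W T :=
    (Subalgebra.isAlgebraic_iff _).mp ((Algebra.isAlgebraic_adjoin_iff (R := W)).mpr (by rintro _ ⟨i, rfl⟩; exact hT i))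
  have hφT : ∀ x, Ideal.Quotient.mkₐ W Q (φ x) ∈ T := by
    intro x
    induction x using MvPolynomial.induction_on with
    | C x => rw [← MvPolynomial.algebraMap_eq, φ.commutes, AlgHom.commutes]; exact T.algebraMap_mem x
    | add x y hx hy => rw [map_add, map_add]; exact add_mem hx hy
    | mul_X x i hx => rw [map_mul, map_mul]; exact mul_mem hx (Algebra.subset_adjoin ⟨i, rfl⟩)
  let ψ : MvPolynomial (Fin n) W →+* T :=
    (((Ideal.Quotient.mkₐ W Q).comp φ).toRingHom).codRestrict T.toSubring hφT
  have hmap : ∀ y : B, φ.toRingHom.IsIntegralElem y → IsAlgebraic W (Ideal.Quotient.mk Q y) := by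
    rintro y ⟨f, hf, hfy⟩
    have h1 : IsIntegral T (Ideal.Quotient.mk Q y) := ⟨f.map ψ, hf.map ψ, by
      rw [Polynomial.eval₂_map]
      exact (Polynomial.hom_eval₂ f φ.toRingHom (Ideal.Quotient.mk Q) y).symm.trans (by rw [hfy, map_zero])⟩
    exact h1.isAlgebraic.restrictScalars W
  refine ⟨fun x => ?_⟩
  obtain ⟨x, rfl⟩ := Ideal.Quotient.mk_surjective x
  obtain ⟨k, hk⟩ := hall x
  have h1 := hmap _ hk
  rw [map_mul, map_pow] at h1
  have h2 : Ideal.Quotient.mk Q r ≠ 0 := fun h => hrQ (Ideal.Quotient.eq_zero_iff_mem.mp h)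
  exact IsAlgebraic.of_mul (mem_nonZeroDivisors_of_ne_zero (pow_ne_zero _ h2)) ((hmap _ hrint).pow k) h1

variable {Ω : Type u} [Field Ω] [IsAlgClosed Ω] (V : ValuationSubring Ω)

/-- Roots of monic polynomials with coefficients in a valuation ring approximate residual roots. -/
theorem exists_root_approx {W : Type u} [CommRing W] (j : W →+* V) {b : V}
    (hb : ((IsLocalRing.residue V).comp j).IsIntegralElem (IsLocalRing.residue V b)) :
    ∃ u : V, (∃ f : Polynomial W, f.Monic ∧ f.eval₂ j u = 0) ∧
      IsLocalRing.residue V u = IsLocalRing.residue V b := by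
  obtain ⟨f, hf, hfb⟩ := hb
  let F : Polynomial V := f.map j
  have hF : F.Monic := hf.map j
  have hroots : ∀ r ∈ (F.map (algebraMap V Ω)).roots, ∃ u : V, algebraMap V Ω u = r ∧ F.eval u = 0 := by
    intro r hr
    have h1 := (Polynomial.mem_roots'.mp hr).2
    rw [Polynomial.IsRoot, Polynomial.eval_map] at h1
    obtain ⟨u, rfl⟩ := IsIntegrallyClosed.algebraMap_eq_of_integral (R := V) (K := Ω) ⟨F, hF, h1⟩
    refine ⟨u, rfl, ?_⟩
    rw [Polynomial.eval₂_at_apply] at h1
    exact (IsFractionRing.injective V Ω) (h1.trans (map_zero _).symm)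
  choose! r hr hr0 using hroots
  have hprod : algebraMap V Ω (F.eval b) =
      algebraMap V Ω (((F.map (algebraMap V Ω)).roots.map fun z => b - r z).prod) := by
    rw [← Polynomial.eval_map_apply, (IsAlgClosed.splits _).eval_eq_prod_roots_of_monic (hF.map _),
      map_multiset_prod, Multiset.map_map]
    refine congrArg Multiset.prod (Multiset.map_congr rfl fun z hz => ?_)
    rw [Function.comp_apply, map_sub, hr z hz]
  have h2 := congrArg (IsLocalRing.residue V) (IsFractionRing.injective V Ω hprod)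
  rw [map_multiset_prod, Multiset.map_map, ← Polynomial.eval_map_apply, Polynomial.map_map,
    Polynomial.eval_map, hfb, eq_comm, Multiset.prod_eq_zero_iff, Multiset.mem_map] at h2
  obtain ⟨z, hz, hzb⟩ := h2
  refine ⟨r z, ⟨f, hf, ?_⟩, ?_⟩
  · rw [← Polynomial.eval_map]; exact hr0 z hz
  · rw [Function.comp_apply, map_sub, sub_eq_zero] at hzb
    exact hzb.symm

/-- An integral extension of a normal domain: going down with avoidance of an element. -/
theorem exists_prime_le {R S : Type u} [CommRing R] [IsDomain R] [IsIntegrallyClosed R] [CommRing S] [IsDomain S]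
    [Algebra R S] [FaithfulSMul R S] [Algebra.IsIntegral R S] (q : Ideal S) [q.IsPrime] (t : Ideal R) [t.IsPrime]
    (ht : t ≤ q.under R) (z : S) (hz : (minpoly R z).coeff 0 ∉ t) :
    ∃ Q : Ideal S, Q.IsPrime ∧ Q ≤ q ∧ Q.under R = t ∧ z ∉ Q := by
  obtain ⟨Q, hQq, hQ, hQt⟩ := Ideal.exists_ideal_le_liesOver_of_le (q := q.under R) q ht
  refine ⟨Q, hQ, hQq, hQt.over.symm, fun hzQ => hz ?_⟩
  rw [hQt.over, Ideal.mem_comap]
  have h := Polynomial.aeval_eq_sum_range (p := minpoly R z) z
  rw [minpoly.aeval, Finset.sum_range_succ', pow_zero, Algebra.smul_def ((minpoly R z).coeff 0), mul_one] at h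
  rw [eq_neg_of_add_eq_zero_right h.symm]
  refine neg_mem (sum_mem fun i _ => ?_)
  rw [Algebra.smul_def]
  exact Q.mul_mem_left _ (Ideal.pow_mem_of_mem Q hzQ _ (by omega))

variable {W : Type u} [CommRing W] [IsDomain W] [ValuationRing W] [Algebra W Ω] [FaithfulSMul W Ω]

/-- The main point: a finite type algebra over a valuation ring inside an algebraically closed valued field,
with algebraic residual values, has a prime with algebraic quotient in the generic fibre, below the centre,
avoiding a given element. -/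
theorem exists_prime_valuation (hWV : ∀ w : W, algebraMap W Ω w ∈ V) {a : W}
    (ha : algebraMap W Ω a ∈ V.nonunits) (ha0 : a ≠ 0)
    (hloc : IsLocalHom ((algebraMap W Ω).codRestrict V.toSubring hWV))
    (B : Subalgebra W Ω) [Algebra.FiniteType W B] (hBV : ∀ b : B, (b : Ω) ∈ V)
    (hres : ∀ b : B, ((IsLocalRing.residue V).comp ((algebraMap W Ω).codRestrict V.toSubring hWV)).IsIntegralElem
      (IsLocalRing.residue V ⟨b, hBV b⟩))
    (g : B) (hg : g ≠ 0) :
    ∃ Q : Ideal B, Q.IsPrime ∧ (∀ b ∈ Q, (b : Ω) ∈ V.nonunits) ∧ Q.under W = ⊥ ∧ g ∉ Q ∧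
      Algebra.IsAlgebraic W (B ⧸ Q) := by
  classical
  let j : W →+* V := (algebraMap W Ω).codRestrict V.toSubring hWV
  haveI : IsLocalHom j := hloc
  let ιB : B →+* V := (B.val.toRingHom).codRestrict V.toSubring hBV
  let q : Ideal B := (IsLocalRing.maximalIdeal V).comap ιB
  have hq : q.comap (algebraMap W B) = IsLocalRing.maximalIdeal W := by
    ext w
    rw [Ideal.mem_comap, Ideal.mem_comap, IsLocalRing.mem_maximalIdeal, IsLocalRing.mem_maximalIdeal,
      mem_nonunits_iff, mem_nonunits_iff]
    exact (show ιB (algebraMap W B w) = j w from rfl) ▸ not_congr (isUnit_map_iff j w)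
  haveI : FaithfulSMul W B := (faithfulSMul_iff_algebraMap_injective _ _).2 fun x y h =>
    FaithfulSMul.algebraMap_injective W Ω (congrArg Subtype.val h)
  haveI : Nontrivial ((IsLocalRing.maximalIdeal W).Fiber B) := by
    rw [← PrimeSpectrum.nonempty_iff_nontrivial]
    exact ⟨PrimeSpectrum.preimageHomeomorphFiber _ _ ⟨IsLocalRing.maximalIdeal W, inferInstance⟩
      ⟨⟨q, inferInstance⟩, PrimeSpectrum.ext hq⟩⟩
  obtain ⟨n, φ, hn, hφq⟩ := FibreDim.exists_isQFAt (B := B) (IsLocalRing.maximalIdeal W)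
  have hqf : FibreDim.IsQFAt φ q := hφq q hq
  have hinj : Function.Injective φ := by
    obtain ⟨htr, hiff⟩ := FibreDim.trdeg_of_isQFAt φ q hqf
    refine hiff.mp (le_antisymm htr ?_)
    let e : IsLocalRing.ResidueField W ⊗[W] B ≃ₐ[W] (IsLocalRing.maximalIdeal W).Fiber B :=
      Algebra.TensorProduct.congr (AlgEquiv.ofBijective
        (IsScalarTower.toAlgHom W (W ⧸ IsLocalRing.maximalIdeal W) (IsLocalRing.maximalIdeal W).ResidueField)
        (Ideal.bijective_algebraMap_quotient_residueField _)) AlgEquiv.refl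
    haveI : Nontrivial (IsLocalRing.ResidueField W ⊗[W] B) := e.toEquiv.nontrivial
    obtain ⟨d, g', φ', hg', hgf', hφ'⟩ := AICPoint.exists_lift_noether (V := W) (C := B)
    have hd : ringKrullDim (IsLocalRing.ResidueField W ⊗[W] B) = d := by
      letI := g'.toRingHom.toAlgebra
      haveI : Algebra.IsIntegral (MvPolynomial (Fin d) (IsLocalRing.ResidueField W))
          (IsLocalRing.ResidueField W ⊗[W] B) := ⟨hgf'.to_isIntegral⟩
      rw [DimTrdeg.ringKrullDim_eq_of_isIntegral (MvPolynomial (Fin d) (IsLocalRing.ResidueField W))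
          (IsLocalRing.ResidueField W ⊗[W] B) hg',
        MvPolynomial.ringKrullDim_of_isNoetherianRing, ringKrullDim_eq_zero_of_field]
      simp
    have hnd : n = d := by
      have := hn.symm.trans ((ringKrullDim_eq_of_ringEquiv e.toRingEquiv).symm.trans hd)
      exact_mod_cast this
    subst hnd
    have hind : AlgebraicIndependent W fun i => φ' (X i) := by
      rw [algebraicIndependent_iff_injective_aeval,
        show MvPolynomial.aeval (fun i => φ' (X i)) = φ' from (MvPolynomial.aeval_unique φ').symm]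
      exact injective_of_fibre g' hg' φ' hφ'
    simpa using hind.lift_cardinalMk_le_trdeg
  let R := MvPolynomial (Fin n) W
  letI : Algebra R B := φ.toRingHom.toAlgebra
  haveI : IsScalarTower W R B := IsScalarTower.of_algebraMap_eq fun a => (φ.commutes a).symm
  haveI : Algebra.FiniteType R B := Algebra.FiniteType.of_restrictScalars_finiteType W _ _
  haveI : FaithfulSMul R B := (faithfulSMul_iff_algebraMap_injective _ _).2 hinj
  haveI : Algebra.QuasiFiniteAt R q := hqf
  haveI : IsIntegrallyClosed R := AICPoint.isIntegrallyClosed_mvPolynomial W n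
  obtain ⟨r, hrq, hrint, hall⟩ := Algebra.zariskisMainProperty_iff.1
    (Algebra.ZariskisMainProperty.of_finiteType (R := R) q)
  have hr0 : r ≠ 0 := fun h => hrq (h ▸ q.zero_mem)
  let S := integralClosure R B
  obtain ⟨m₀, hm₀⟩ := hall g
  let z : S := ⟨r ^ m₀ * g, hm₀⟩
  have hz : z ≠ 0 := fun h => hg ((mul_eq_zero.mp (congrArg Subtype.val h)).resolve_left (pow_ne_zero _ hr0))
  let c₀ : R := (minpoly R z).coeff 0
  haveI : FaithfulSMul R S := (faithfulSMul_iff_algebraMap_injective _ _).2 fun x y h =>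
    hinj (congrArg Subtype.val h)
  have hc₀ : c₀ ≠ 0 := fun h => by
    obtain ⟨q₁, hq₁⟩ := Polynomial.X_dvd_iff.mpr h
    have hmon : q₁.Monic := Polynomial.monic_X.of_mul_monic_left (hq₁ ▸ minpoly.monic (Algebra.IsIntegral.isIntegral z))
    have h0 := minpoly.aeval R z
    rw [hq₁, map_mul, Polynomial.aeval_X] at h0
    have := minpoly.min R z hmon ((mul_eq_zero.mp h0).resolve_left hz)
    rw [hq₁, Polynomial.degree_mul, Polynomial.degree_X, Polynomial.degree_eq_natDegree hmon.ne_zero] at this
    norm_cast at this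
    omega
  choose u hu hub using fun i : Fin n => exists_root_approx V j (hres (φ (X i)))
  let pt : (Fin n → W) → Fin n → V := fun w i => u i + j a * j (w i)
  obtain ⟨w, hw⟩ : ∃ w : Fin n → W, MvPolynomial.aeval (fun i => ((pt w i : V) : Ω)) c₀ ≠ 0 := by
    by_contra! h
    have hj : Function.Injective fun w : W => ((j a * j w : V) : Ω) := fun w w' e =>
      FaithfulSMul.algebraMap_injective W Ω (mul_left_cancel₀
        (fun h0 => ha0 (FaithfulSMul.algebraMap_injective W Ω (h0.trans (map_zero _).symm))) e)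
    haveI : Infinite W := by
      by_contra hfin
      haveI := not_infinite_iff_finite.mp hfin
      have : IsField W := Finite.isDomain_to_isField W
      obtain ⟨a', ha'⟩ := this.mul_inv_cancel ha0
      have h1 : algebraMap W Ω a * algebraMap W Ω a' = 1 := by rw [← map_mul, ha', map_one]
      obtain ⟨_, hnu⟩ := ValuationSubring.mem_nonunits_iff_exists_mem_maximalIdeal.mp ha
      exact (IsLocalRing.mem_maximalIdeal _).mp hnu (IsUnit.of_mul_eq_one (⟨_, hWV a'⟩ : V) (Subtype.ext h1))
    have h0 : MvPolynomial.map (algebraMap W Ω) c₀ = 0 := by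
      refine MvPolynomial.funext_set (fun i => Set.range fun w : W => ((u i : V) : Ω) + ((j a * j w : V) : Ω))
        (fun i => Set.infinite_range_of_injective fun w w' e => hj (add_left_cancel e)) fun x hx => ?_
      choose w hw using fun i => hx i (Set.mem_univ i)
      rw [map_zero, MvPolynomial.eval_map, ← h w, MvPolynomial.aeval_def]
      congr 1
      funext i
      exact (hw i).symm
    exact hc₀ (MvPolynomial.map_injective _ (FaithfulSMul.algebraMap_injective W Ω) (h0.trans (map_zero _).symm))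
  let ev : R →ₐ[W] Ω := MvPolynomial.aeval fun i => ((pt w i : V) : Ω)
  let t : Ideal R := RingHom.ker ev.toRingHom
  haveI : t.IsPrime := RingHom.ker_isPrime _
  have hevq : ∀ f : R, IsLocalRing.residue V (ιB (φ f)) =
      IsLocalRing.residue V (MvPolynomial.eval₂ j (pt w) f) := by
    have h' : ((IsLocalRing.residue V).comp ιB).comp φ.toRingHom =
        (IsLocalRing.residue V).comp (MvPolynomial.eval₂Hom j (pt w)) := by
      refine MvPolynomial.ringHom_ext (fun x => ?_) fun i => ?_
      · simp only [RingHom.comp_apply, MvPolynomial.eval₂Hom_C]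
        congr 1
        refine Subtype.ext ?_
        show ((φ (C x) : B) : Ω) = algebraMap W Ω x
        rw [← MvPolynomial.algebraMap_eq, φ.commutes]; rfl
      · simp only [RingHom.comp_apply, MvPolynomial.eval₂Hom_X', pt, map_add, map_mul]
        have : IsLocalRing.residue V (j a) = 0 := by
          obtain ⟨_, hnu⟩ := ValuationSubring.mem_nonunits_iff_exists_mem_maximalIdeal.mp ha
          exact (IsLocalRing.residue_eq_zero_iff _).mpr hnu
        rw [this, zero_mul, add_zero, hub i]
        rfl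
    exact fun f => RingHom.congr_fun h' f
  have hev : ∀ f : R, ((MvPolynomial.eval₂ j (pt w) f : V) : Ω) = ev f := fun f => by
    induction f using MvPolynomial.induction_on with
    | C x =>
      rw [MvPolynomial.eval₂_C]
      show algebraMap W Ω x = ev (C x)
      rw [← MvPolynomial.algebraMap_eq, ev.commutes]
    | add x y hx hy => simp [hx, hy]
    | mul_X x i hx =>
      rw [MvPolynomial.eval₂_mul, MvPolynomial.eval₂_X, MulMemClass.coe_mul, hx, map_mul]
      congr 1
      exact (MvPolynomial.aeval_X (R := W) (fun i => ((pt w i : V) : Ω)) i).symm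
  let qS : Ideal S := q.comap S.val.toRingHom
  have htq : t ≤ qS.under R := fun f hf => by
    show ιB (φ f) ∈ IsLocalRing.maximalIdeal V
    rw [← IsLocalRing.residue_eq_zero_iff, hevq]
    have : (MvPolynomial.eval₂ j (pt w) f : V) = 0 := Subtype.ext ((hev f).trans (RingHom.mem_ker.mp hf))
    rw [this, map_zero]
  obtain ⟨QS, hQS, hQSq, hQSt, hzQ⟩ := exists_prime_le qS t htq z (fun h => hw h)
  let rS : S := ⟨r, hrint⟩
  have hrQ : rS ∉ QS := fun h => hrq (hQSq h)
  have htr : ∀ (b : B) (k k' : ℕ) (h : IsIntegral R (r ^ k * b)) (h' : IsIntegral R (r ^ k' * b)),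
      (⟨_, h⟩ : S) ∈ QS → (⟨_, h'⟩ : S) ∈ QS := by
    intro b k k' h h' hb
    have e : rS ^ k * (⟨_, h'⟩ : S) = rS ^ k' * ⟨_, h⟩ := Subtype.ext (by simp [rS]; ring)
    exact (hQS.mem_or_mem (e ▸ QS.mul_mem_left _ hb)).resolve_left fun hh => hrQ (hQS.mem_of_pow_mem _ hh)
  let Q : Ideal B :=
    { carrier := {b | ∃ (k : ℕ) (h : IsIntegral R (r ^ k * b)), (⟨_, h⟩ : S) ∈ QS}
      zero_mem' := ⟨0, by simpa using isIntegral_zero, by
        convert QS.zero_mem; exact Subtype.ext (by simp)⟩
      add_mem' := by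
        rintro b b' ⟨k, h, hb⟩ ⟨k', h', hb'⟩
        have e : r ^ (k + k') * (b + b') =
            ((rS ^ k' * ⟨_, h⟩ + rS ^ k * ⟨_, h'⟩ : S) : B) := by simp [rS, pow_add]; ring
        have hI : IsIntegral R (((rS ^ k' * ⟨_, h⟩ + rS ^ k * ⟨_, h'⟩ : S)) : B) := (_ : S).2
        refine ⟨k + k', by rw [e]; exact hI, ?_⟩
        convert QS.add_mem (QS.mul_mem_left (rS ^ k') hb) (QS.mul_mem_left (rS ^ k) hb') using 1
        exact Subtype.ext e
      smul_mem' := by
        rintro c b ⟨k, h, hb⟩
        obtain ⟨l, hl⟩ := hall c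
        have e : r ^ (l + k) * (c • b) = ((⟨_, hl⟩ * ⟨_, h⟩ : S) : B) := by
          simp [pow_add]; ring
        have hI : IsIntegral R (((⟨_, hl⟩ * ⟨_, h⟩ : S)) : B) := (_ : S).2
        refine ⟨l + k, by rw [e]; exact hI, ?_⟩
        convert QS.mul_mem_left ⟨_, hl⟩ hb using 1
        exact Subtype.ext e }
  have hQ : Q.IsPrime := by
    refine ⟨fun h => ?_, fun {b b'} hbb => ?_⟩
    · obtain ⟨k, hk, hmem⟩ := (Q.eq_top_iff_one.mp h : (1 : B) ∈ Q)
      have : (⟨_, hk⟩ : S) = rS ^ k := Subtype.ext (by simp [rS])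
      exact hrQ (hQS.mem_of_pow_mem _ (this ▸ hmem))
    · obtain ⟨k, hk, hmem⟩ := hbb
      obtain ⟨l, hl⟩ := hall b
      obtain ⟨l', hl'⟩ := hall b'
      have h3 : IsIntegral R (r ^ (l + l') * (b * b')) := by
        rw [show r ^ (l + l') * (b * b') = (r ^ l * b) * (r ^ l' * b') by ring]
        exact hl.mul hl'
      have := htr (b * b') k (l + l') hk h3 hmem
      have e : (⟨_, h3⟩ : S) = ⟨_, hl⟩ * ⟨_, hl'⟩ := Subtype.ext (by simp [pow_add]; ring)
      rw [e] at this
      rcases hQS.mem_or_mem this with h | h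
      · exact Or.inl ⟨l, hl, h⟩
      · exact Or.inr ⟨l', hl', h⟩
  have hQW : Q.under W = ⊥ := by
    refine (Submodule.eq_bot_iff _).mpr fun x hx => ?_
    obtain ⟨k, hk, hmem⟩ := hx
    have e : (⟨_, hk⟩ : S) = rS ^ k * algebraMap R S (C x) := Subtype.ext (by
      show r ^ k * algebraMap W B x = r ^ k * φ (C x)
      rw [← MvPolynomial.algebraMap_eq, φ.commutes])
    rw [e] at hmem
    have h1 := (hQS.mem_or_mem hmem).resolve_left fun h => hrQ (hQS.mem_of_pow_mem _ h)
    rw [← Ideal.mem_comap, show QS.comap (algebraMap R S) = t from hQSt, RingHom.mem_ker] at h1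
    change ev (C x) = 0 at h1
    rw [← MvPolynomial.algebraMap_eq, ev.commutes] at h1
    exact FaithfulSMul.algebraMap_injective W Ω (h1.trans (map_zero _).symm)
  refine ⟨Q, hQ, fun b hb => ?_, hQW, fun hgQ => ?_, ?_⟩
  · obtain ⟨k, hk, hmem⟩ := hb
    have h1 : b ∈ q := ((inferInstance : q.IsPrime).mem_or_mem (hQSq hmem : r ^ k * b ∈ q)).resolve_left
      fun h => hrq ((inferInstance : q.IsPrime).mem_of_pow_mem _ h)
    exact ValuationSubring.mem_nonunits_iff_exists_mem_maximalIdeal.mpr ⟨_, h1⟩
  · obtain ⟨k, hk, hmem⟩ := hgQ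
    exact hzQ (htr g k m₀ hk hm₀ hmem)
  · have hT : ∀ i, IsAlgebraic W (Ideal.Quotient.mk Q (φ (X i))) := by
      intro i
      have hai : IsAlgebraic W ((pt w i : V) : Ω) := by
        obtain ⟨f, hf, hfu⟩ := hu i
        have h1 : IsIntegral W ((u i : V) : Ω) := ⟨f, hf, by
          have := congrArg V.subtype hfu
          rw [Polynomial.hom_eval₂, map_zero] at this
          exact this⟩
        refine (h1.add ?_).isAlgebraic
        show IsIntegral W (algebraMap W Ω a * algebraMap W Ω (w i))
        exact isIntegral_algebraMap.mul isIntegral_algebraMap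
      obtain ⟨f, hf, hfz⟩ := hai
      refine ⟨f, hf, ?_⟩
      have hmem : Polynomial.aeval (X i : R) f ∈ t := by
        rw [RingHom.mem_ker]
        show ev (Polynomial.aeval (X i : R) f) = 0
        rw [← Polynomial.aeval_algHom_apply]
        rw [show ev (X i) = ((pt w i : V) : Ω) from MvPolynomial.aeval_X _ i]
        exact hfz
      rw [← hQSt] at hmem
      change Polynomial.aeval (Ideal.Quotient.mkₐ W Q (φ (X i))) f = 0
      rw [Polynomial.aeval_algHom_apply, Polynomial.aeval_algHom_apply, Ideal.Quotient.mkₐ_eq_mk,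
        Ideal.Quotient.eq_zero_iff_mem]
      have hI : IsIntegral R (r ^ 0 * φ (Polynomial.aeval (X i : R) f)) := by
        rw [pow_zero, one_mul]; exact isIntegral_algebraMap
      refine ⟨0, hI, ?_⟩
      have e : (⟨_, hI⟩ : S) = algebraMap R S (Polynomial.aeval (X i : R) f) :=
        Subtype.ext (show r ^ 0 * φ _ = φ _ by rw [pow_zero, one_mul])
      rw [e]
      exact hmem
    haveI : FaithfulSMul W (B ⧸ Q) := (faithfulSMul_iff_algebraMap_injective _ _).2 <|
      (injective_iff_map_eq_zero _).2 fun x hx => by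
        have hx' : x ∈ Q.under W := by
          rw [Ideal.mem_comap, ← Ideal.Quotient.eq_zero_iff_mem]
          exact (IsScalarTower.algebraMap_apply W B (B ⧸ Q) x).symm.trans hx
        exact hQW ▸ hx'
    refine isAlgebraic_of_generators φ Q hT r (fun h => ?_) hrint hall
    obtain ⟨l, hl, hmem⟩ := h
    have e : (⟨_, hl⟩ : S) = rS ^ l * rS := Subtype.ext (by simp [rS])
    rw [e] at hmem
    rcases hQS.mem_or_mem hmem with h | h
    · exact hrQ (hQS.mem_of_pow_mem _ h)
    · exact hrQ h

end Groth.Agent.ClosedBetween
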